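import Mathlib

set_option autoImplicit false

/-!
Linear algebra behind the classification of groups with three automorphism orbits:
a prime-order operator `T` on an `F_p`-space whose extended semilinear symmetry group is
transitive on nonzero vectors generates a field of degree `q - 1`, and conversely.
-/

namespace Cfsg.Agent.Lib.ThreeOrbits

open Polynomial

variable {p q : ℕ} [Fact p.Prime] [Fact q.Prime] {V : Type*} [AddCommGroup V] [Module (ZMod p) V]
  [Finite V]

/-- The submodule of vectors `g(T) v`. -/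
noncomputable def cyc (T : Module.End (ZMod p) V) (v : V) : Submodule (ZMod p) V :=
  LinearMap.range ((LinearMap.applyₗ v).comp (aeval T).toLinearMap)

omit [Finite V] in
theorem mem_cyc {T : Module.End (ZMod p) V} {v u : V} :
    u ∈ cyc T v ↔ ∃ g : (ZMod p)[X], aeval T g v = u := Iff.rfl

omit [Finite V] in
theorem self_mem_cyc (T : Module.End (ZMod p) V) (v : V) : v ∈ cyc T v :=
  mem_cyc.2 ⟨1, by simp⟩

omit [Finite V] in
theorem cyc_le {T : Module.End (ZMod p) V} {v u : V} (h : u ∈ cyc T v) : cyc T u ≤ cyc T v := by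
  obtain ⟨g, rfl⟩ := mem_cyc.1 h
  intro w hw
  obtain ⟨k, rfl⟩ := mem_cyc.1 hw
  exact mem_cyc.2 ⟨k * g, by rw [map_mul, Module.End.mul_apply]⟩

omit [Finite V] in
theorem twist_aeval (T : Module.End (ZMod p) V) (ψ : V ≃+ V) (i : ℕ)
    (h : ∀ u, ψ (T u) = (T ^ i) (ψ u)) (g : (ZMod p)[X]) (u : V) :
    ψ (aeval T g u) = aeval T (g.comp (X ^ i)) (ψ u) := by
  induction g using Polynomial.induction_on generalizing u with
  | C a =>
    simp only [C_comp, aeval_C, Module.algebraMap_end_apply]
    exact ZMod.map_smul ψ.toAddMonoidHom a u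
  | add a b ha hb => simp only [map_add, LinearMap.add_apply, add_comp, ha, hb]
  | monomial n a ha =>
    rw [pow_succ, ← mul_assoc, map_mul, Module.End.mul_apply, aeval_X, ha, h]
    simp only [mul_comp, X_comp, map_mul, Module.End.mul_apply, map_pow, aeval_X]

/-- Transitivity forces every cyclic submodule to be simple and the operator algebra to be a field,
whose degree is the order of `p` modulo `q`. -/
theorem orderOf_eq [Nontrivial V] (hpq : p ≠ q) (T : Module.End (ZMod p) V) (hTq : T ^ q = 1)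
    (hT1 : T ≠ 1)
    (h1 : ∀ i : ℕ, ¬ q ∣ i → ∃ ψ : V ≃+ V, ∀ u, ψ (T u) = (T ^ i) (ψ u))
    (h2 : ∀ v w : V, v ≠ 0 → w ≠ 0 → ∃ ψ : V ≃+ V, ψ v = w ∧
      ∃ i : ℕ, ∀ u, ψ (T u) = (T ^ i) (ψ u)) :
    orderOf (p : ZMod q) = q - 1 := by
  have hcard : ∀ v w : V, v ≠ 0 → w ≠ 0 → Nat.card (cyc T v) ≤ Nat.card (cyc T w) := by
    intro v w hv hw
    obtain ⟨ψ, hψ, i, hi⟩ := h2 v w hv hw
    refine Nat.card_le_card_of_injective (fun u => (⟨ψ u.1, ?_⟩ : cyc T w))
      (fun a b hab => Subtype.ext (ψ.injective (congrArg Subtype.val hab)))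
    obtain ⟨g, hg⟩ := mem_cyc.1 u.2
    exact mem_cyc.2 ⟨g.comp (X ^ i), by rw [← hg, twist_aeval T ψ i hi, hψ]⟩
  have hsimple : ∀ v u : V, v ≠ 0 → u ≠ 0 → u ∈ cyc T v → cyc T u = cyc T v := fun v u hv hu h =>
    Submodule.toAddSubgroup_injective
      (AddSubgroup.eq_of_le_of_card_ge (cyc_le h) (hcard v u hv hu))
  have key : ∀ (g : (ZMod p)[X]) (v : V), v ≠ 0 → aeval T g v = 0 → aeval T g = 0 := by
    intro g v hv hg
    apply LinearMap.ext
    intro w
    rw [LinearMap.zero_apply]
    by_cases hwv : w ∈ cyc T v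
    · obtain ⟨k, rfl⟩ := mem_cyc.1 hwv
      rw [← Module.End.mul_apply, ← map_mul, mul_comm, map_mul, Module.End.mul_apply, hg, map_zero]
    · have hw0 : w ≠ 0 := fun h => hwv (h ▸ zero_mem _)
      have hvw0 : v + w ≠ 0 := fun h => hwv (by
        rw [eq_neg_of_add_eq_zero_right h]; exact neg_mem (self_mem_cyc T v))
      by_contra hu
      have e1 := hsimple w _ hw0 hu (mem_cyc.2 ⟨g, rfl⟩)
      have e2 := hsimple (v + w) _ hvw0 hu (mem_cyc.2 ⟨g, by rw [map_add, hg, zero_add]⟩)
      have h3 : v + w ∈ cyc T w := by rw [← e1, e2]; exact self_mem_cyc T _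
      have h4 : v ∈ cyc T w := by simpa using sub_mem h3 (self_mem_cyc T w)
      exact hwv ((hsimple w v hw0 hv h4).symm ▸ self_mem_cyc T w)
  have hint : IsIntegral (ZMod p) T := IsIntegral.of_finite (ZMod p) T
  set f := minpoly (ZMod p) T with hf
  have hf0 : f ≠ 0 := minpoly.ne_zero hint
  have hirr : Irreducible f := by
    refine ⟨minpoly.not_isUnit _ _, fun {a b} hab => ?_⟩
    obtain ⟨v0, hv0⟩ := exists_ne (0 : V)
    have h0 : aeval T a (aeval T b v0) = 0 := by
      rw [← Module.End.mul_apply, ← map_mul, ← hab, minpoly.aeval, LinearMap.zero_apply]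
    have hd : ∀ c d : (ZMod p)[X], f = c * d → aeval T d = 0 → IsUnit c := by
      intro c d hcd hd
      obtain ⟨e, he⟩ := minpoly.dvd (ZMod p) T hd
      refine IsUnit.of_mul_eq_one e (mul_left_cancel₀ hf0 ?_)
      calc f * (c * e) = c * (f * e) := by ring
        _ = f * 1 := by rw [← he, ← hcd, mul_one]
    by_cases hb : aeval T b v0 = 0
    · exact Or.inl (hd a b hab (key b v0 hv0 hb))
    · exact Or.inr (hd b a (hab.trans (mul_comm a b)) (key a _ hb h0))
  have hroots : ∀ i : ℕ, ¬ q ∣ i → f ∣ f.comp (X ^ i) := by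
    intro i hi
    obtain ⟨ψ, hψ⟩ := h1 i hi
    refine minpoly.dvd _ _ (LinearMap.ext fun w => ?_)
    rw [LinearMap.zero_apply, ← ψ.apply_symm_apply w, ← twist_aeval T ψ i hψ, minpoly.aeval,
      LinearMap.zero_apply, map_zero]
  have hdvd : f ∣ cyclotomic q (ZMod p) := by
    have h : f ∣ (X - 1) * cyclotomic q (ZMod p) := by
      rw [mul_comm, cyclotomic_prime_mul_X_sub_one]
      exact minpoly.dvd _ _ (by simp [hTq])
    rcases hirr.prime.dvd_or_dvd h with h | h
    · exfalso
      obtain ⟨e, he⟩ := h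
      apply hT1
      have := congrArg (aeval T) he
      rw [map_mul, minpoly.aeval, zero_mul, map_sub, aeval_X, map_one, sub_eq_zero] at this
      exact this
    · exact h
  have hqp : ¬ p ∣ q := fun h => hpq ((Nat.prime_dvd_prime_iff_eq Fact.out Fact.out).1 h)
  have hdeg : f.natDegree = orderOf (p : ZMod q) := by
    have h := natDegree_of_dvd_cyclotomic_of_irreducible (K := ZMod p) (p := p) (f := 1)
      (by simp) ((Nat.Prime.coprime_iff_not_dvd Fact.out).2 hqp) hdvd hirr
    rw [h, ← orderOf_units, ZMod.coe_unitOfCoprime, pow_one]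
  rw [← hdeg]
  refine le_antisymm ?_ ?_
  · have := natDegree_le_of_dvd hdvd (cyclotomic_ne_zero _ _)
    rwa [natDegree_cyclotomic, Nat.totient_prime Fact.out] at this
  · haveI : Fact (Irreducible f) := ⟨hirr⟩
    classical
    have hζ : IsPrimitiveRoot (AdjoinRoot.root f) q := by
      haveI : NeZero ((q : ℕ) : AdjoinRoot f) := by
        refine ⟨fun h => hqp ?_⟩
        rw [← map_natCast (algebraMap (ZMod p) (AdjoinRoot f)), map_eq_zero,
          ZMod.natCast_eq_zero_iff] at h
        exact h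
      simpa [← isRoot_cyclotomic_iff] using (AdjoinRoot.isRoot_root f).dvd
        (by simpa using map_dvd (Polynomial.mapRingHom (algebraMap (ZMod p) (AdjoinRoot f))) hdvd)
    set S := (f.map (algebraMap (ZMod p) (AdjoinRoot f))).roots.toFinset with hS
    have hsub : (Finset.Ico 1 q).image (fun i => (AdjoinRoot.root f) ^ i) ⊆ S := by
      intro z hz
      simp only [Finset.mem_image, Finset.mem_Ico] at hz
      obtain ⟨i, ⟨hi1, hi2⟩, rfl⟩ := hz
      rw [hS, Multiset.mem_toFinset, mem_roots_map hf0, ← aeval_def]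
      have h := congrArg (aeval (AdjoinRoot.root f)) (hroots i (Nat.not_dvd_of_pos_of_lt hi1 hi2)).choose_spec
      have h0 : aeval (AdjoinRoot.root f) f = 0 := by rw [AdjoinRoot.aeval_eq, AdjoinRoot.mk_self]
      rw [map_mul, h0, zero_mul, aeval_comp, map_pow, aeval_X] at h
      exact h
    calc q - 1 = ((Finset.Ico 1 q).image (fun i => (AdjoinRoot.root f) ^ i)).card := by
          rw [Finset.card_image_of_injOn, Nat.card_Ico]
          intro a ha b hb hab
          simp only [Finset.coe_Ico, Set.mem_Ico] at ha hb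
          exact hζ.pow_inj ha.2 hb.2 hab
      _ ≤ S.card := Finset.card_le_card hsub
      _ ≤ _ := Multiset.toFinset_card_le _
      _ ≤ (f.map (algebraMap (ZMod p) (AdjoinRoot f))).natDegree := card_roots' _
      _ = f.natDegree := natDegree_map _

/-- Any nonzero vector can be mapped to any other by a linear automorphism. -/
theorem exists_linearEquiv_map {K W : Type*} [Field K] [AddCommGroup W] [Module K W]
    [FiniteDimensional K W] {a b : W} (ha : a ≠ 0) (hb : b ≠ 0) : ∃ L : W ≃ₗ[K] W, L a = b := by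
  let f := (LinearEquiv.toSpanNonzeroSingleton K W a ha).symm.trans
    (LinearEquiv.toSpanNonzeroSingleton K W b hb)
  obtain ⟨g, hg⟩ := Submodule.exists_linearEquiv_restrict_eq f
  refine ⟨g, ?_⟩
  have h1 : (LinearEquiv.toSpanNonzeroSingleton K W a ha).symm
      ⟨a, Submodule.mem_span_singleton_self a⟩ = 1 := by
    rw [LinearEquiv.symm_apply_eq]; exact Subtype.ext (by simp)
  have := hg ⟨a, Submodule.mem_span_singleton_self a⟩
  simp only [f, LinearEquiv.trans_apply, h1] at this
  simpa using this.symm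

/-- If `p` is a primitive root modulo `q` and `T` has order `q` without fixed points, then the
semilinear maps commuting with the powers of `T` are transitive on nonzero vectors. -/
theorem exists_semilinear (hpq : p ≠ q) (hord : orderOf (p : ZMod q) = q - 1)
    (T : Module.End (ZMod p) V) (hTq : T ^ q = 1) (hfix : ∀ v, T v = v → v = 0)
    (i : ℕ) (hi : ¬ q ∣ i) (v w : V) (hv : v ≠ 0) (hw : w ≠ 0) :
    ∃ ψ : V ≃+ V, ψ v = w ∧ ∀ u, ψ (T u) = (T ^ i) (ψ u) := by
  set Φ := cyclotomic q (ZMod p) with hΦ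
  have hqp : ¬ p ∣ q := fun h => hpq ((Nat.prime_dvd_prime_iff_eq Fact.out Fact.out).1 h)
  have hirr : Irreducible Φ := by
    refine ZMod.irreducible_of_dvd_cyclotomic_of_natDegree hqp dvd_rfl ?_
    rw [natDegree_cyclotomic, Nat.totient_prime Fact.out, ← hord, ← orderOf_units,
      ZMod.coe_unitOfCoprime]
  haveI : Fact (Irreducible Φ) := ⟨hirr⟩
  haveI : Finite (AdjoinRoot Φ) := by
    haveI := (cyclotomic.monic q (ZMod p)).finite_adjoinRoot
    exact Module.finite_of_finite (ZMod p)
  have hann : aeval T Φ = 0 := by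
    have hsurj : Function.Surjective (T - 1 : Module.End (ZMod p) V) := by
      refine Finite.injective_iff_surjective.1 fun a b h => ?_
      have h' : (T - 1 : Module.End (ZMod p) V) (a - b) = 0 := by rw [map_sub, h, sub_self]
      rw [LinearMap.sub_apply, Module.End.one_apply, sub_eq_zero] at h'
      exact sub_eq_zero.1 (hfix _ h')
    have h : aeval T Φ * (T - 1) = 0 := by
      have e := congrArg (aeval T) (cyclotomic_prime_mul_X_sub_one (ZMod p) q)
      simpa [hTq] using e
    apply LinearMap.ext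
    intro u
    obtain ⟨u', rfl⟩ := hsurj u
    rw [← Module.End.mul_apply, h, LinearMap.zero_apply, LinearMap.zero_apply]
  let ρ : AdjoinRoot Φ →+* Module.End (ZMod p) V :=
    Ideal.Quotient.lift (Ideal.span {Φ}) (aeval T).toRingHom (by
      intro a ha
      obtain ⟨c, rfl⟩ := Ideal.mem_span_singleton.1 ha
      show aeval T (Φ * c) = 0
      rw [map_mul, hann, zero_mul])
  have hρ : ρ (AdjoinRoot.root Φ) = T := aeval_X T
  letI : Module (AdjoinRoot Φ) V := Module.compHom V ρ
  have hsmul : ∀ (c : AdjoinRoot Φ) (u : V), c • u = ρ c u := fun c u => rfl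
  haveI : Module.Finite (AdjoinRoot Φ) V := Module.Finite.of_finite
  have hζ : IsPrimitiveRoot (AdjoinRoot.root Φ) q := by
    haveI : NeZero ((q : ℕ) : AdjoinRoot Φ) := by
      refine ⟨fun h => hqp ?_⟩
      rw [← map_natCast (algebraMap (ZMod p) (AdjoinRoot Φ)), map_eq_zero,
        ZMod.natCast_eq_zero_iff] at h
      exact h
    have := AdjoinRoot.isRoot_root Φ
    rwa [hΦ, map_cyclotomic, isRoot_cyclotomic_iff] at this
  have hζi : aeval ((AdjoinRoot.root Φ) ^ i) Φ = 0 := by
    have hp' := hζ.pow_of_coprime i ((Nat.Prime.coprime_iff_not_dvd Fact.out).2 hi).symm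
    haveI : NeZero ((q : ℕ) : AdjoinRoot Φ) := hζ.neZero'
    have := isRoot_cyclotomic_iff.2 hp'
    rwa [← map_cyclotomic q (algebraMap (ZMod p) (AdjoinRoot Φ)), IsRoot, eval_map, ← aeval_def] at this
  let σ0 : AdjoinRoot Φ →ₐ[ZMod p] AdjoinRoot Φ :=
    AdjoinRoot.liftAlgHom Φ (Algebra.ofId _ _) _ hζi
  let σ : AdjoinRoot Φ ≃+* AdjoinRoot Φ := RingEquiv.ofBijective σ0
    ⟨RingHom.injective σ0.toRingHom, Finite.injective_iff_surjective.1 (RingHom.injective σ0.toRingHom)⟩
  have hσ : σ (AdjoinRoot.root Φ) = (AdjoinRoot.root Φ) ^ i := AdjoinRoot.liftAlgHom_root Φ (Algebra.ofId _ _) _ hζi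
  let bas := Module.Free.chooseBasis (AdjoinRoot Φ) V
  let ψ0 : V ≃+ V := (bas.repr.toAddEquiv.trans
    (Finsupp.mapRange.addEquiv σ.toAddEquiv)).trans bas.repr.symm.toAddEquiv
  have hψ0 : ∀ (c : AdjoinRoot Φ) (u : V), ψ0 (c • u) = σ c • ψ0 u := by
    intro c u
    apply bas.repr.injective
    ext j
    simp [ψ0]
  have hψv : ψ0 v ≠ 0 := fun h => hv (ψ0.injective (h.trans (map_zero ψ0).symm))
  obtain ⟨L, hL⟩ := exists_linearEquiv_map (K := AdjoinRoot Φ) hψv hw
  refine ⟨ψ0.trans L.toAddEquiv, hL, fun u => ?_⟩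
  show L (ψ0 (T u)) = (T ^ i) (L (ψ0 u))
  rw [← hρ, ← map_pow, ← hsmul, ← hsmul, hψ0, hσ, map_smul]

end Cfsg.Agent.Lib.ThreeOrbits
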